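import Groth.Agent.H29Omega.StalkCompat
import Groth.Agent.H7Flat.GenericGeomReduced
import Groth.Agent.H17.LocusBC
import Groth.Agent.H8Props.FinLocFree.Sheaf
import Groth.Agent.H29Omega.ConormalSplit

/-!
# The pullback of differentials is injective at points where the map is formally smooth
-/

set_option autoImplicit false
set_option linter.style.haveILetI false
set_option maxHeartbeats 800000

universe u

open CategoryTheory CategoryTheory.Limits AlgebraicGeometry TopologicalSpace Opposite TensorProduct

namespace Groth.Agent.H7SmoothCrit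

open Groth.Agent.H06Mod Groth.Agent.H29Omega

attribute [local instance] Groth.Agent.H06Mod.stalkAlgebra

/-- The stalk of the comparison map of differentials is the base change map of local differentials. -/
theorem exists_stalk_equivs {X' X S : Scheme.{u}} {f : X ⟶ S} (g' : X' ⟶ X)
    {Ω : X.Modules} (d : OmegaSh.Der f Ω) (hd : OmegaSh.IsUniversal d)
    {Ω' : X'.Modules} (d' : OmegaSh.Der (g' ≫ f) Ω') (hd' : OmegaSh.IsUniversal d')
    (c : (Scheme.Modules.pullback g').obj Ω ⟶ Ω') (hc : OmegaSh.IsDiffCompat g' d d' c) (x' : X') :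
    letI : Algebra (S.presheaf.stalk (f.base (g'.base x'))) (X'.presheaf.stalk x') :=
      ((g' ≫ f).stalkMap x').hom.toAlgebra
    haveI : IsScalarTower (S.presheaf.stalk (f.base (g'.base x'))) (X.presheaf.stalk (g'.base x'))
        (X'.presheaf.stalk x') := .of_algebraMap_eq fun r =>
      congr($(congrArg CommRingCat.Hom.hom (Scheme.Hom.stalkMap_comp g' f x')) r)
    ∃ (E₁ : ((Scheme.Modules.pullback g').obj Ω).presheaf.stalk x' ≃ₗ[X'.presheaf.stalk x']
        X'.presheaf.stalk x' ⊗[X.presheaf.stalk (g'.base x')]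
          KaehlerDifferential (S.presheaf.stalk (f.base (g'.base x'))) (X.presheaf.stalk (g'.base x')))
      (E₂ : Ω'.presheaf.stalk x' ≃ₗ[X'.presheaf.stalk x']
        KaehlerDifferential (S.presheaf.stalk (f.base (g'.base x'))) (X'.presheaf.stalk x')),
      ∀ v, E₂ (stalkLin c x' v) = KaehlerDifferential.mapBaseChange (S.presheaf.stalk (f.base (g'.base x')))
        (X.presheaf.stalk (g'.base x')) (X'.presheaf.stalk x') (E₁ v) := by
  letI : Algebra (S.presheaf.stalk (f.base (g'.base x'))) (X'.presheaf.stalk x') :=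
    ((g' ≫ f).stalkMap x').hom.toAlgebra
  haveI : IsScalarTower (S.presheaf.stalk (f.base (g'.base x'))) (X.presheaf.stalk (g'.base x'))
      (X'.presheaf.stalk x') := .of_algebraMap_eq fun r =>
    congr($(congrArg CommRingCat.Hom.hom (Scheme.Hom.stalkMap_comp g' f x')) r)
  obtain ⟨e, he⟩ := exists_stalkEquiv d hd (g'.base x')
  obtain ⟨e', he'⟩ : ∃ e : Ω'.presheaf.stalk x' ≃ₗ[X'.presheaf.stalk x']
      KaehlerDifferential (S.presheaf.stalk (f.base (g'.base x'))) (X'.presheaf.stalk x'),
      ∀ (U : X'.Opens) (hx : x' ∈ U) (s : Γ(X', U)), e (Ω'.presheaf.germ U x' hx (d'.app U s)) =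
        KaehlerDifferential.D (S.presheaf.stalk (f.base (g'.base x'))) (X'.presheaf.stalk x')
          (X'.presheaf.germ U x' hx s) := exists_stalkEquiv d' hd' x'
  let P := pullStalkEquiv g' Ω x'
  let T := LinearEquiv.baseChange (R := X.presheaf.stalk (g'.base x')) (A := X'.presheaf.stalk x') _ _ e
  have hkey : ∀ z, e' (stalkLin c x' (P (T.symm z))) =
      KaehlerDifferential.mapBaseChange (S.presheaf.stalk (f.base (g'.base x')))
        (X.presheaf.stalk (g'.base x')) (X'.presheaf.stalk x') z := by
    intro z
    induction z using TensorProduct.induction_on with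
    | zero => simp
    | add a b ha hb => simp only [map_add, ha, hb]
    | tmul b' ω =>
      rw [KaehlerDifferential.mapBaseChange_tmul]
      have h1 : T.symm (b' ⊗ₜ ω) = b' • ((1 : X'.presheaf.stalk x') ⊗ₜ e.symm ω) := by
        rw [TensorProduct.smul_tmul', smul_eq_mul, mul_one]
        rfl
      rw [h1, map_smul, map_smul, map_smul]
      clear h1
      congr 1
      have hω : ω ∈ Submodule.span (X.presheaf.stalk (g'.base x'))
          (Set.range (KaehlerDifferential.D (S.presheaf.stalk (f.base (g'.base x')))
            (X.presheaf.stalk (g'.base x')))) := by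
        rw [KaehlerDifferential.span_range_derivation]; trivial
      induction hω using Submodule.span_induction with
      | zero => simp
      | add a b _ _ ha hb =>
        rw [LinearEquiv.map_add, TensorProduct.tmul_add, LinearEquiv.map_add, LinearMap.map_add,
          LinearEquiv.map_add, ha, hb, LinearMap.map_add]
      | smul r a _ ha =>
        have h2 : (1 : X'.presheaf.stalk x') ⊗ₜ[X.presheaf.stalk (g'.base x')] e.symm (r • a) =
            algebraMap (X.presheaf.stalk (g'.base x')) (X'.presheaf.stalk x') r •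
              ((1 : X'.presheaf.stalk x') ⊗ₜ e.symm a) := by
          rw [map_smul, TensorProduct.tmul_smul, algebraMap_smul]
        rw [h2, map_smul, map_smul, map_smul, ha, map_smul, algebraMap_smul]
      | mem a ha =>
        obtain ⟨t, rfl⟩ := ha
        obtain ⟨U, hU, s, rfl⟩ := X.presheaf.exists_germ_eq t
        rw [← he U hU s, LinearEquiv.symm_apply_apply,
          show P ((1 : X'.presheaf.stalk x') ⊗ₜ Ω.presheaf.germ U (g'.base x') hU (d.app U s)) =
            ((Scheme.Modules.pullback g').obj Ω).presheaf.germ (g' ⁻¹ᵁ U) x' hU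
              (OmegaSh.pullSect g' Ω U (d.app U s)) from
            (pullStalkLin_tmul g' Ω x' 1 _).trans ((one_smul _ _).trans (pullStalk_germ g' Ω x' U hU _)),
          stalkLin_germ, hc U s, he' (g' ⁻¹ᵁ U) hU, he U hU s, KaehlerDifferential.map_D]
        congr 1
        exact (Scheme.Hom.germ_stalkMap_apply g' U x' hU s).symm
  refine ⟨P.symm.trans T, e', fun v => ?_⟩
  rw [← hkey, LinearEquiv.trans_apply, LinearEquiv.symm_apply_apply, LinearEquiv.apply_symm_apply]

theorem injective_stalk_diffCompat {X' X S : Scheme.{u}} {f : X ⟶ S} {f' : X' ⟶ S} (g' : X' ⟶ X)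
    (w : g' ≫ f = f') {Ω : X.Modules} (d : OmegaSh.Der f Ω) (hd : OmegaSh.IsUniversal d)
    {Ω' : X'.Modules} (d' : OmegaSh.Der f' Ω') (hd' : OmegaSh.IsUniversal d')
    (c : (Scheme.Modules.pullback g').obj Ω ⟶ Ω') (hc : OmegaSh.IsDiffCompat g' d d' c) (x' : X')
    (hfs : (g'.stalkMap x').hom.FormallySmooth) : Function.Injective (stalkLin c x') := by
  subst w
  letI : Algebra (S.presheaf.stalk (f.base (g'.base x'))) (X'.presheaf.stalk x') :=
    ((g' ≫ f).stalkMap x').hom.toAlgebra
  haveI : IsScalarTower (S.presheaf.stalk (f.base (g'.base x'))) (X.presheaf.stalk (g'.base x'))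
      (X'.presheaf.stalk x') := .of_algebraMap_eq fun r =>
    congr($(congrArg CommRingCat.Hom.hom (Scheme.Hom.stalkMap_comp g' f x')) r)
  haveI : Algebra.FormallySmooth (X.presheaf.stalk (g'.base x')) (X'.presheaf.stalk x') := hfs
  have hinj : Function.Injective (KaehlerDifferential.mapBaseChange (S.presheaf.stalk (f.base (g'.base x')))
      (X.presheaf.stalk (g'.base x')) (X'.presheaf.stalk x')) := by
    obtain ⟨-, hs⟩ := (Algebra.formallySmooth_iff (X.presheaf.stalk (g'.base x')) (X'.presheaf.stalk x')).1 inferInstance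
    refine (injective_iff_map_eq_zero _).2 fun z hz => ?_
    obtain ⟨y, rfl⟩ := (Algebra.H1Cotangent.exact_δ_mapBaseChange _ _ _ z).1 hz
    rw [hs.elim y 0, map_zero]
  obtain ⟨E₁, E₂, hE⟩ := exists_stalk_equivs g' d hd d' hd' c hc x'
  intro a b hab
  exact E₁.injective (hinj ((hE a).symm.trans ((congrArg E₂ hab).trans (hE b))))

/-- On an integral scheme a map out of a finite locally free module injective at the generic point is mono. -/
theorem mono_of_injective_genericPoint {X : Scheme.{u}} [IsIntegral X] {M N : X.Modules}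
    (hM : FlatMod.IsFinLocFree M) (φ : M ⟶ N) (h : Function.Injective (stalkLin φ (genericPoint X))) : Mono φ := by
  refine mono_of_injective_stalkLin φ fun x => (injective_iff_map_eq_zero _).2 fun v hv => ?_
  have hq := H8Props.FinLocFree.isQCoh_of_isFinLocFree M hM
  obtain ⟨O, r, hxO, ⟨e⟩⟩ := hM x
  obtain ⟨_, ⟨U, hU, rfl⟩, hxU, hle⟩ := X.isBasis_affineOpens.exists_subset_of_mem_open hxO O.2
  replace hU : IsAffineOpen U := hU
  obtain ⟨b⟩ := H8Props.FinLocFree.exists_basis_of_chart M e (V := U) hle
  obtain ⟨t, u, ht⟩ := H29Blow.exists_germ_eq_smul M hq hU ⟨x, hxU⟩ v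
  haveI : Nonempty U := ⟨⟨x, hxU⟩⟩
  have hηU : genericPoint X ∈ U := ((genericPoint_spec X).specializes trivial).mem_open U.2 hxU
  replace ht : M.presheaf.germ U x hxU t = (u : X.presheaf.stalk x) • v := ht
  have h2 : N.presheaf.germ U x hxU (φ.app U t) = 0 := by
    rw [← stalkLin_germ, ht, map_smul, hv, smul_zero]
  obtain ⟨W, hxW, iW, iW', hz⟩ := TopCat.Presheaf.germ_eq (F := N.presheaf) x hxU hxU (φ.app U t) 0
    (h2.trans (map_zero _).symm)
  have hηW : genericPoint X ∈ W := ((genericPoint_spec X).specializes trivial).mem_open W.2 hxW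
  have h3 : stalkLin φ (genericPoint X) (M.presheaf.germ U (genericPoint X) hηU t) = 0 := by
    rw [stalkLin_germ, ← N.presheaf.germ_res_apply iW (genericPoint X) hηW (φ.app U t), hz, map_zero, map_zero]
  obtain ⟨c, hc, hct⟩ := H29Blow.exists_smul_eq_zero_of_germ M hq hU ⟨genericPoint X, hηU⟩ t
    (h (h3.trans (map_zero _).symm))
  haveI : Module.Free Γ(X, U) Γ(M, U) := Module.Free.of_basis b
  have hc0 : c ≠ 0 := fun h0 => hc (h0 ▸ Ideal.zero_mem _)
  have ht0 : t = 0 := (smul_eq_zero.mp hct).resolve_left hc0
  rw [ht0, map_zero] at ht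
  exact u.isUnit.smul_eq_zero.mp ht.symm

/-- A morphism of integral schemes with geometrically reduced generic fibre is smooth at the generic point. -/
theorem formallySmooth_stalkMap_genericPoint {X Z : Scheme.{u}} [IsIntegral X] [IsIntegral Z] (f : X ⟶ Z)
    [LocallyOfFinitePresentation f] (hη : f (genericPoint X) = genericPoint Z)
    (hsep : GeometricallyReduced (f.fiberToSpecResidueField (f (genericPoint X)))) :
    (f.stalkMap (genericPoint X)).hom.FormallySmooth := by
  haveI := hsep
  haveI : LocallyOfFinitePresentation (f.fiberToSpecResidueField (f (genericPoint X))) :=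
    MorphismProperty.pullback_snd f _ ‹_›
  have hflat : (f.stalkMap (genericPoint X)).hom.Flat := by
    have hK : IsField (Z.presheaf.stalk (f (genericPoint X))) := by
      rw [hη]; exact Field.toIsField Z.functionField
    letI := hK.toField
    algebraize [(f.stalkMap (genericPoint X)).hom]
    exact (inferInstance : Module.Flat (Z.presheaf.stalk (f (genericPoint X))) (X.presheaf.stalk (genericPoint X)))
  refine H17.LocusBC.mem_smoothLocus_of_flat_of_fiber f (genericPoint X) hflat ?_
  have hd := @H7Flat.GenericFibre.dense_smoothLocus_of_geometricallyReduced _ _ _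
    (f.fiberToSpecResidueField (f (genericPoint X))) ‹_› hsep
  obtain ⟨z, hz⟩ := hd.inter_open_nonempty Set.univ isOpen_univ ⟨f.asFiber (genericPoint X), trivial⟩
  refine Specializes.mem_open ?_ (f.fiberToSpecResidueField (f (genericPoint X))).smoothLocus.2 hz.2
  rw [← (f.fiberι (f (genericPoint X))).isEmbedding.isInducing.specializes_iff, Scheme.Hom.fiberι_asFiber]
  exact (genericPoint_spec X).specializes trivial

end Groth.Agent.H7SmoothCrit
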