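import Groth.Agent.H7SmoothCrit.DiffMono
import Groth.Agent.H8Props.Reduced
import Groth.Agent.H05EGA4.FieldSep
import Groth.Agent.H06Red.Algebra
import Groth.Agent.H22Alg.GeomRegularAt
import Groth.Agent.H22Alg.VarDim
import Groth.Agent.H29Fitt.FreeLocal
import Groth.Agent.S2469

/-!
# Independent differentials pulled back along a map with separable generic fibre
-/

set_option autoImplicit false
set_option linter.style.haveILetI false
set_option maxHeartbeats 800000

universe u

open CategoryTheory CategoryTheory.Limits AlgebraicGeometry TopologicalSpace Opposite TensorProduct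

namespace Groth.Agent.H7SmoothCrit

open Groth.Agent.H06Mod Groth.Agent.H29Omega

attribute [local instance] Groth.Agent.H06Mod.stalkAlgebra

theorem formallySmooth_of_isReduced_pullback {K E : Type u} [Field K] [Field E]
    (φ : CommRingCat.of K ⟶ CommRingCat.of E)
    (h : IsReduced (pullback (Spec.map φ) (Spec.map (CommRingCat.ofHom (algebraMap K (AlgebraicClosure K)))))) :
    φ.hom.FormallySmooth := by
  algebraize [φ.hom]
  haveI : IsReduced (pullback (Spec.map (CommRingCat.ofHom (algebraMap K E)))
      (Spec.map (CommRingCat.ofHom (algebraMap K (AlgebraicClosure K))))) := h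
  haveI : IsReduced (Spec (CommRingCat.of (E ⊗[K] AlgebraicClosure K))) :=
    isReduced_of_isOpenImmersion (pullbackSpecIso K E (AlgebraicClosure K)).inv
  haveI : _root_.IsReduced (E ⊗[K] AlgebraicClosure K) :=
    (affine_isReduced_iff (CommRingCat.of (E ⊗[K] AlgebraicClosure K))).1 inferInstance
  haveI : Algebra.IsGeometricallyReduced K E :=
    (Algebra.isGeometricallyReduced_field_iff K E).2 (H06Red.isReduced_comm K E (AlgebraicClosure K) inferInstance)
  exact H05EGA4.FieldSep.formallySmooth_of_isGeometricallyReduced _ _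

/-- The residue field extension at the generic point is separable if the fibre is geometrically reduced. -/
theorem formallySmooth_residueFieldMap_genericPoint {X Z : Scheme.{u}} [IsIntegral X] (f : X ⟶ Z)
    (hsep : GeometricallyReduced (f.fiberToSpecResidueField (f (genericPoint X)))) :
    (f.residueFieldMap (genericPoint X)).hom.FormallySmooth := by
  set ξ := genericPoint X
  let t := f.asFiberHom ξ
  have hres : Function.Bijective (X.residue ξ).hom :=
    ⟨(RingHom.injective (show X.functionField →+* X.residueField ξ from (X.residue ξ).hom)),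
      Ideal.Quotient.mk_surjective⟩
  haveI : Flat (X.fromSpecResidueField ξ) := by
    haveI : Flat (Spec.map (X.residue ξ)) := by
      rw [HasRingHomProperty.Spec_iff (P := @Flat)]
      exact RingHom.Flat.of_bijective hres
    haveI : Flat (X.fromSpecStalk ξ) := H8Props.flat_fromSpecStalk X ξ
    rw [Scheme.fromSpecResidueField]
    infer_instance
  have hpb : IsPullback t (𝟙 _) (f.fiberι (f ξ)) (X.fromSpecResidueField ξ) := by
    refine ⟨⟨by rw [Scheme.Hom.asFiberHom_fiberι, Category.id_comp]⟩, ⟨PullbackCone.IsLimit.mk _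
      (fun s => s.snd) (fun s => ?_) (fun s => Category.comp_id _) (fun s l _ h => ?_)⟩⟩
    · rw [← cancel_mono (f.fiberι (f ξ)), Category.assoc, Scheme.Hom.asFiberHom_fiberι]
      exact s.condition.symm
    · exact (Category.comp_id l).symm.trans h
  haveI : Flat t := MorphismProperty.of_isPullback hpb.flip inferInstance
  let L := AlgebraicClosure (Z.residueField (f ξ))
  let b := Spec.map (CommRingCat.ofHom (algebraMap (Z.residueField (f ξ)) L))
  let ft := f.fiberToSpecResidueField (f ξ)
  haveI := hsep
  haveI : IsReduced (pullback ft b) :=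
    GeometricallyReduced.geometrically_isReduced b _ _ (IsPullback.of_hasPullback ft b)
  haveI : IsReduced (pullback t (pullback.fst ft b)) :=
    H8Props.isReduced_of_flat_isPreimmersion (pullback.snd t (pullback.fst ft b))
  refine formallySmooth_of_isReduced_pullback (K := Z.residueField (f ξ)) (E := X.residueField ξ) (f.residueFieldMap ξ) ?_
  have h : t ≫ ft = Spec.map (f.residueFieldMap ξ) := f.asFiberHom_fiberToSpecResidueField ξ
  exact isReduced_of_isOpenImmersion (pullbackRightPullbackFstIso ft b t ≪≫ pullback.congrHom h rfl).inv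

/-- Over a formally smooth field extension, spanning differentials contain enough independent images. -/
theorem exists_linearIndependent_mapBaseChange {R O L A : Type u} [CommRing R] [CommRing O] [Field L] [Field A]
    [Algebra R O] [Algebra R L] [Algebra R A] [Algebra O L] [Algebra O A] [Algebra L A]
    [IsScalarTower R O L] [IsScalarTower R O A] [IsScalarTower R L A] [IsScalarTower O L A]
    [Algebra.FormallySmooth L A] (hOL : Function.Surjective (algebraMap O L)) {ι : Type*} [Finite ι]
    (v : ι → A ⊗[O] Ω[O⁄R]) (hv : Submodule.span A (Set.range v) = ⊤) {m : ℕ}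
    (hm : m ≤ Module.finrank L Ω[L⁄R]) :
    ∃ σ : Fin m → ι, LinearIndependent A fun i => KaehlerDifferential.mapBaseChange R O A (v (σ i)) := by
  let T := KaehlerDifferential.mapBaseChange R O A
  have hP : LinearMap.range T = Submodule.span A (Set.range fun i => T (v i)) := by
    rw [LinearMap.range_eq_map, ← hv, Submodule.map_span, ← Set.range_comp]; rfl
  have hle : LinearMap.range (KaehlerDifferential.mapBaseChange R L A) ≤ LinearMap.range T := by
    have hmap : ∀ ω, KaehlerDifferential.map R R L A ω ∈ LinearMap.range T := by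
      intro ω
      have hω : ω ∈ Submodule.span L (Set.range (KaehlerDifferential.D R L)) := by
        rw [KaehlerDifferential.span_range_derivation]; trivial
      induction hω using Submodule.span_induction with
      | zero => simp
      | add a b _ _ ha hb => rw [map_add]; exact add_mem ha hb
      | smul r a _ ha =>
        rw [map_smul, ← algebraMap_smul A r]
        exact Submodule.smul_mem _ _ ha
      | mem a ha =>
        obtain ⟨l, rfl⟩ := ha
        obtain ⟨o, rfl⟩ := hOL l
        refine ⟨1 ⊗ₜ KaehlerDifferential.D R O o, ?_⟩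
        rw [KaehlerDifferential.mapBaseChange_tmul, one_smul, KaehlerDifferential.map_D,
          KaehlerDifferential.map_D, IsScalarTower.algebraMap_apply O L A]
    rintro _ ⟨z, rfl⟩
    induction z using TensorProduct.induction_on with
    | zero => simp
    | add a b ha hb => rw [map_add]; exact add_mem ha hb
    | tmul a ω =>
      rw [KaehlerDifferential.mapBaseChange_tmul]
      exact Submodule.smul_mem _ _ (hmap ω)
  have hinj := H05EGA4.FieldSep.injective_of_formallySmooth R L A
  haveI : Module.Finite A (LinearMap.range T) := by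
    rw [hP]; exact Module.Finite.span_of_finite A (Set.finite_range _)
  have h1 : m ≤ Module.finrank A (LinearMap.range T) := by
    refine hm.trans ?_
    rw [← Module.finrank_baseChange (R := A) (S := L) (M' := Ω[L⁄R]), ← LinearMap.finrank_range_of_inj hinj]
    exact Submodule.finrank_mono hle
  rw [hP] at h1
  haveI : Module.Finite A (Submodule.span A (Set.range fun i => T (v i))) :=
    Module.Finite.span_of_finite A (Set.finite_range _)
  obtain ⟨g, hg, -, hli⟩ := Submodule.exists_fun_fin_finrank_span_eq A (Set.range fun i => T (v i))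
  choose σ hσ using hg
  refine ⟨fun i => σ (Fin.castLE h1 i), ?_⟩
  have : (fun i => T (v (σ (Fin.castLE h1 i)))) = g ∘ Fin.castLE h1 := funext fun i => hσ _
  exact this ▸ hli.comp _ (Fin.castLE_injective h1)

theorem surjective_germ_fromField (k : Type u) [Field k] (pt : ↥(Spec (CommRingCat.of k))) :
    Function.Surjective (((Spec (CommRingCat.of k)).presheaf.germ ⊤ pt trivial).hom.comp
      (Scheme.ΓSpecIso (CommRingCat.of k)).inv.hom) := by
  letI := (Spec (CommRingCat.of k)).presheaf.algebra_section_stalk (U := ⊤) ⟨pt, trivial⟩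
  haveI := (isAffineOpen_top (Spec (CommRingCat.of k))).isLocalization_stalk ⟨pt, trivial⟩
  have hfield : IsField Γ(Spec (CommRingCat.of k), ⊤) :=
    (Scheme.ΓSpecIso (CommRingCat.of k)).commRingCatIsoToRingEquiv.toMulEquiv.isField (Field.toIsField k)
  intro z
  obtain ⟨a, ⟨s, hs⟩, rfl⟩ := IsLocalization.exists_mk'_eq
    ((isAffineOpen_top (Spec (CommRingCat.of k))).primeIdealOf ⟨pt, trivial⟩).asIdeal.primeCompl z
  have hs0 : s ≠ 0 := fun h0 => hs (h0 ▸ Ideal.zero_mem _)
  obtain ⟨b, hb⟩ := hfield.mul_inv_cancel hs0
  obtain ⟨c, hc⟩ := (Scheme.ΓSpecIso (CommRingCat.of k)).symm.commRingCatIsoToRingEquiv.surjective (a * b)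
  refine ⟨c, ?_⟩
  rw [IsLocalization.eq_mk'_iff_mul_eq, RingHom.comp_apply]
  refine (congrArg (fun t => (Spec (CommRingCat.of k)).presheaf.germ ⊤ pt trivial t * algebraMap _ _ s) hc).trans ?_
  refine (map_mul (algebraMap Γ(Spec (CommRingCat.of k), ⊤) _) (a * b) s).symm.trans ?_
  rw [mul_assoc, mul_comm b, hb, mul_one]

/-- Differentials of a residue field have rank at least the dimension of the closure of the point. -/
theorem le_finrank_kaehler_residueField (k : Type u) [Field k] {Z : Scheme.{u}}
    [Z.Over (Spec (CommRingCat.of k))] [LocallyOfFiniteType (Z ↘ Spec (CommRingCat.of k))] (z : Z) (m : ℕ)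
    (hm : topologicalKrullDim (closure ({z} : Set Z)) = m) :
    letI : Algebra ((Spec (CommRingCat.of k)).presheaf.stalk ((Z ↘ Spec (CommRingCat.of k)) z))
        (Z.residueField z) :=
      ((Z.residue z).hom.comp ((Z ↘ Spec (CommRingCat.of k)).stalkMap z).hom).toAlgebra
    m ≤ Module.finrank (Z.residueField z)
      Ω[Z.residueField z⁄(Spec (CommRingCat.of k)).presheaf.stalk ((Z ↘ Spec (CommRingCat.of k)) z)] := by
  let p := Z ↘ Spec (CommRingCat.of k)
  let R := (Spec (CommRingCat.of k)).presheaf.stalk (p z)
  letI : Algebra R (Z.residueField z) := ((Z.residue z).hom.comp (p.stalkMap z).hom).toAlgebra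
  letI : Algebra k (Z.residueField z) := (Curv2.resMap k Z z).toAlgebra
  letI : Algebra k (Z.presheaf.stalk z) := Curv2.stalkAlgebra k Z z
  letI : Algebra (Z.presheaf.stalk z) (Z.residueField z) := (Z.residue z).hom.toAlgebra
  haveI : IsScalarTower k (Z.presheaf.stalk z) (Z.residueField z) := .of_algebraMap_eq fun _ => rfl
  haveI := H22Alg.GeomRegularAt.essFiniteType_stalk k Z z
  haveI : Algebra.FiniteType (Z.presheaf.stalk z) (Z.residueField z) :=
    RingHom.FiniteType.of_surjective (Z.residue z).hom Ideal.Quotient.mk_surjective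
  haveI : Algebra.EssFiniteType k (Z.residueField z) :=
    Algebra.EssFiniteType.comp k (Z.presheaf.stalk z) _
  let ψ : k →+* R := ((Spec (CommRingCat.of k)).presheaf.germ ⊤ (p z) trivial).hom.comp
    (Scheme.ΓSpecIso (CommRingCat.of k)).inv.hom
  letI : Algebra k R := ψ.toAlgebra
  haveI : IsScalarTower k R (Z.residueField z) := .of_algebraMap_eq fun c => by
    show Z.residue z _ = Z.residue z (p.stalkMap z (ψ c))
    congr 1
    exact (Scheme.Hom.germ_stalkMap_apply p ⊤ z trivial _).symm
  have hψ : Function.Surjective (algebraMap k R) := surjective_germ_fromField k (p z)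
  haveI : Subsingleton Ω[R⁄k] := KaehlerDifferential.subsingleton_of_surjective k R hψ
  have hinj : Function.Injective (KaehlerDifferential.map k R (Z.residueField z) (Z.residueField z)) := by
    refine (injective_iff_map_eq_zero _).2 fun x hx => ?_
    obtain ⟨y, rfl⟩ := (KaehlerDifferential.exact_mapBaseChange_map k R (Z.residueField z) x).1 hx
    induction y using TensorProduct.induction_on with
    | zero => simp
    | add a b ha hb =>
      rw [map_add, ha ((KaehlerDifferential.exact_mapBaseChange_map k R _).apply_apply_eq_zero a),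
        hb ((KaehlerDifferential.exact_mapBaseChange_map k R _).apply_apply_eq_zero b), add_zero]
    | tmul s w => rw [Subsingleton.elim w 0, tmul_zero, map_zero]
  obtain ⟨hfin, -, hcar⟩ := S2469.result (K := k) (L := Z.residueField z)
  obtain ⟨s, hs, hs'⟩ := H22Alg.VarDim.exists_cdim_trdeg k Z z
  obtain rfl : s = m := by
    rw [H8Props.FieldDim.cdim, hm] at hs
    exact_mod_cast hs.symm
  have e := (LinearEquiv.ofBijective _ ⟨hinj, KaehlerDifferential.map_surjective k R (Z.residueField z)⟩).finrank_eq
  rw [← e]
  have : Cardinal.toNat (Algebra.trdeg k (Z.residueField z)) = s := by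
    rw [show Algebra.trdeg k (Z.residueField z) = s from hs', Cardinal.toNat_natCast]
  omega

/-- There are `m` global differentials independent at the generic point. -/
theorem exists_linearIndependent_germ (k : Type u) [Field k] {X Z : Scheme.{u}} [IsIntegral X]
    [Z.Over (Spec (CommRingCat.of k))] [LocallyOfFiniteType (Z ↘ Spec (CommRingCat.of k))]
    {pX : X ⟶ Spec (CommRingCat.of k)} (f : X ⟶ Z) (w : f ≫ (Z ↘ Spec (CommRingCat.of k)) = pX)
    (η : Z) (hη : closure {η} = closure (Set.range f.base)) (m : ℕ)
    (hm : topologicalKrullDim (closure (Set.range f.base)) = m)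
    (hsep : GeometricallyReduced (pullback.snd f (Z.fromSpecResidueField η)))
    {ΩZ : Z.Modules} (dZ : OmegaSh.Der (Z ↘ Spec (CommRingCat.of k)) ΩZ) (hdZ : OmegaSh.IsUniversal dZ)
    {ΩX : X.Modules} (dX : OmegaSh.Der pX ΩX) (hdX : OmegaSh.IsUniversal dX)
    (c : (Scheme.Modules.pullback f).obj ΩZ ⟶ ΩX) (hc : OmegaSh.IsDiffCompat f dZ dX c)
    {d : ℕ} (e : (Scheme.Modules.pullback f).obj ΩZ ≅ FlatMod.freeMod X d) :
    ∃ s : Fin m → Γ(ΩX, ⊤), LinearIndependent (X.presheaf.stalk (genericPoint X))
      fun i => ΩX.presheaf.germ ⊤ (genericPoint X) trivial (s i) := by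
  subst w
  let p := Z ↘ Spec (CommRingCat.of k)
  let ξ := genericPoint X
  have hcl : closure (Set.range f.base) = closure {f ξ} := by
    refine subset_antisymm (closure_minimal ?_ isClosed_closure) (closure_mono (by rintro _ rfl; exact ⟨ξ, rfl⟩))
    rintro _ ⟨x, rfl⟩
    exact specializes_iff_mem_closure.1 (((genericPoint_spec X).specializes trivial).map f.continuous)
  obtain rfl : η = f ξ :=
    Inseparable.eq (inseparable_iff_closure_eq.2 (hη.trans hcl))
  rw [← hη] at hm
  let R := (Spec (CommRingCat.of k)).presheaf.stalk (p (f ξ))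
  let O := Z.presheaf.stalk (f ξ)
  let L := Z.residueField (f ξ)
  letI : Field (X.presheaf.stalk ξ) := inferInstanceAs (Field X.functionField)
  letI : Algebra R (X.presheaf.stalk ξ) := ((f ≫ p).stalkMap ξ).hom.toAlgebra
  haveI : IsScalarTower R O (X.presheaf.stalk ξ) := .of_algebraMap_eq fun r =>
    congr($(congrArg CommRingCat.Hom.hom (Scheme.Hom.stalkMap_comp f p ξ)) r)
  letI : Algebra O L := (Z.residue (f ξ)).hom.toAlgebra
  letI : Algebra R L := ((Z.residue (f ξ)).hom.comp (p.stalkMap (f ξ)).hom).toAlgebra
  haveI : IsScalarTower R O L := .of_algebraMap_eq fun _ => rfl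
  let ρ : X.presheaf.stalk ξ ≃+* X.residueField ξ := RingEquiv.ofBijective (X.residue ξ).hom
    ⟨(RingHom.injective (show X.functionField →+* X.residueField ξ from (X.residue ξ).hom)),
      Ideal.Quotient.mk_surjective⟩
  letI : Algebra L (X.residueField ξ) := (f.residueFieldMap ξ).hom.toAlgebra
  letI : Algebra L (X.presheaf.stalk ξ) :=
    (ρ.symm.toRingHom.comp (f.residueFieldMap ξ).hom).toAlgebra
  have hOLA : ∀ o, algebraMap O (X.presheaf.stalk ξ) o =
      algebraMap L (X.presheaf.stalk ξ) (algebraMap O L o) := fun o => by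
    apply ρ.injective
    refine Eq.trans ?_ (ρ.apply_symm_apply _).symm
    exact (congr($(congrArg CommRingCat.Hom.hom (Scheme.residue_residueFieldMap f ξ)) o)).symm
  haveI : IsScalarTower O L (X.presheaf.stalk ξ) := .of_algebraMap_eq hOLA
  haveI : IsScalarTower R L (X.presheaf.stalk ξ) := .of_algebraMap_eq fun r =>
    (IsScalarTower.algebraMap_apply R O _ r).trans (hOLA _)
  haveI : Algebra.FormallySmooth L (X.residueField ξ) := formallySmooth_residueFieldMap_genericPoint f hsep
  haveI : Algebra.FormallySmooth L (X.presheaf.stalk ξ) :=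
    Algebra.FormallySmooth.of_equiv (AlgEquiv.ofRingEquiv (f := ρ.symm) fun _ => rfl)
  obtain ⟨E₁, E₂, hE⟩ := exists_stalk_equivs f dZ hdZ dX hdX c hc ξ
  let PF := (Scheme.Modules.pullback f).obj ΩZ
  let g : Fin d → Γ(PF, ⊤) := fun j => e.inv.app ⊤ (H29Fitt.gen X d j ⊤)
  have hv : Submodule.span (X.presheaf.stalk ξ)
      (Set.range fun j => E₁ (PF.presheaf.germ ⊤ ξ trivial (g j))) = ⊤ := by
    rw [Submodule.eq_top_iff']
    intro z
    obtain ⟨y, rfl⟩ := E₁.surjective z
    rw [show Set.range (fun j => E₁ (PF.presheaf.germ ⊤ ξ trivial (g j))) =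
        E₁ '' Set.range (fun j => PF.presheaf.germ ⊤ ξ trivial (g j)) from Set.range_comp _ _,
      ← LinearEquiv.coe_toLinearMap, ← Submodule.map_span]
    refine Submodule.mem_map_of_mem ?_
    obtain ⟨V, hV, hξV, -⟩ := exists_isAffineOpen_mem_and_subset (x := ξ) (U := (⊤ : X.Opens)) trivial
    obtain ⟨t, q, ht⟩ := H29Blow.exists_germ_eq_smul _ (H29Fitt.isQuasicoherent_freeMod X d) hV ⟨ξ, hξV⟩
      (stalkLin e.hom ξ y)
    obtain ⟨a, rfl⟩ := H29Fitt.exists_eq_sum_gen d V t
    have hy : (q : X.presheaf.stalk ξ) • y = ∑ j, X.presheaf.germ V ξ hξV (a j) •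
        PF.presheaf.germ ⊤ ξ trivial (g j) := by
      have h1 := congrArg (stalkLin e.inv ξ) ht.symm
      rw [map_smul] at h1
      refine (congrArg _ ?_).trans (h1.trans ?_)
      · rw [← stalkLin_comp, e.hom_inv_id]
        obtain ⟨W, hW, w, rfl⟩ := PF.presheaf.exists_germ_eq y
        exact (stalkLin_germ (𝟙 PF) ξ W hW w).symm
      rw [map_sum, map_sum]
      refine Finset.sum_congr rfl fun j _ => ?_
      rw [← H29Fitt.res_gen d j (le_top : V ≤ ⊤)]
      refine (congrArg _ (H06Mod.germ_smul (FlatMod.freeMod X d) V hξV _ _)).trans ?_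
      refine ((stalkLin e.inv ξ).map_smul _ _).trans ?_
      congr 1
      refine (congrArg _ ((FlatMod.freeMod X d).presheaf.germ_res_apply (homOfLE (le_top : V ≤ ⊤)) ξ hξV _)).trans ?_
      exact stalkLin_germ e.inv ξ _ _ _
    have : y = (↑q⁻¹ : X.presheaf.stalk ξ) • ((q : X.presheaf.stalk ξ) • y) := by
      rw [smul_smul, Units.inv_mul, one_smul]
    rw [this, hy]
    exact Submodule.smul_mem _ _ (Submodule.sum_mem _ fun j _ => Submodule.smul_mem _ _ (Submodule.subset_span ⟨j, rfl⟩))
  obtain ⟨σ, hσ⟩ := exists_linearIndependent_mapBaseChange (R := R) (O := O) (L := L)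
    (A := X.presheaf.stalk ξ) Ideal.Quotient.mk_surjective
    (fun j => E₁ (PF.presheaf.germ ⊤ ξ trivial (g j))) hv (m := m)
    (le_finrank_kaehler_residueField k (f ξ) m hm)
  refine ⟨fun i => c.app ⊤ (g (σ i)), LinearIndependent.of_comp E₂.toLinearMap ?_⟩
  have hcomp : (⇑E₂.toLinearMap ∘ fun i => ΩX.presheaf.germ ⊤ ξ trivial (c.app ⊤ (g (σ i)))) =
      fun i => KaehlerDifferential.mapBaseChange R O (X.presheaf.stalk ξ)
        (E₁ (PF.presheaf.germ ⊤ ξ trivial (g (σ i)))) := by
    funext i
    rw [Function.comp_apply, ← stalkLin_germ]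
    exact hE _
  rw [hcomp]
  exact hσ

/-- The largest smooth open subscheme of an integral geometrically reduced scheme contains the generic point. -/
theorem genericPoint_mem_of_isMax_smooth (k : Type u) [Field k] {X : Scheme.{u}} [IsIntegral X]
    (f : X ⟶ Spec (CommRingCat.of k)) [LocallyOfFinitePresentation f]
    (hn : Pi1.IsNormalScheme (pullback f (Spec.map (CommRingCat.ofHom (algebraMap k (AlgebraicClosure k))))))
    (U : X.Opens) (hUmax : ∀ V : X.Opens, Smooth (V.ι ≫ f) → V ≤ U) : genericPoint X ∈ U := by
  let b := Spec.map (CommRingCat.ofHom (algebraMap k (AlgebraicClosure k)))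
  haveI : Surjective b := ⟨fun x => ⟨IsLocalRing.closedPoint _, Subsingleton.elim _ _⟩⟩
  haveI : Flat b := by
    rw [HasRingHomProperty.Spec_iff (P := @Flat)]
    exact RingHom.flat_algebraMap_iff.2 inferInstance
  haveI : IsReduced (pullback f b) := by
    haveI : ∀ x : ↥(pullback f b), _root_.IsReduced ((pullback f b).presheaf.stalk x) := fun x => by
      haveI := (hn x).1
      infer_instance
    exact isReduced_of_isReduced_stalk _
  haveI : Surjective (pullback.fst f b) := MorphismProperty.pullback_fst f b ‹_›
  obtain ⟨x', -⟩ := (pullback.fst f b).surjective (genericPoint X)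
  obtain ⟨z, -, hz⟩ := dense_iff_inter_open.1 (pullback.snd f b).dense_smoothLocus_of_perfectField
    Set.univ isOpen_univ ⟨x', trivial⟩
  exact hUmax f.smoothLocus (H17.LocusBC.smooth_restrict_smoothLocus f)
    (((genericPoint_spec X).specializes trivial).mem_open f.smoothLocus.2
      (H17.LocusBC.mem_smoothLocus_of_flat_baseChange (IsPullback.of_hasPullback f b) z hz))

/-- Sections with independent germs at the generic point stay independent over any open through it. -/
theorem linearIndependent_res_of_germ {X : Scheme.{u}} [IsIntegral X] {ι : Type*} (N : X.Modules)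
    (s : ι → Γ(N, ⊤)) (hs : LinearIndependent (X.presheaf.stalk (genericPoint X))
      fun i => N.presheaf.germ ⊤ (genericPoint X) trivial (s i)) (W : X.Opens) (hW : genericPoint X ∈ W) :
    LinearIndependent Γ(X, W) fun i => N.presheaf.map (homOfLE (le_top : W ≤ ⊤)).op (s i) := by
  rw [linearIndependent_iff']
  intro t a h i hi
  have h' := congrArg (N.presheaf.germ W (genericPoint X) hW) h
  rw [map_sum, map_zero] at h'
  have h'' : ∑ i ∈ t, X.presheaf.germ W (genericPoint X) hW (a i) •
      N.presheaf.germ ⊤ (genericPoint X) trivial (s i) = 0 := by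
    refine Eq.trans (Finset.sum_congr rfl fun j _ => ?_) h'
    rw [H06Mod.germ_smul, N.presheaf.germ_res_apply]
  exact germ_injective_of_isIntegral X (genericPoint X) hW
    ((linearIndependent_iff'.1 hs t _ h'' i hi).trans (map_zero _).symm)

end Groth.Agent.H7SmoothCrit
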