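import Groth.Agent.H7SmoothCrit.DiffRank
import Groth.Agent.H17.KoszSh.AffHom
import Groth.Prelude.Def_ExtPow2

/-!
# The wedge of sections independent at the generic point
-/

set_option autoImplicit false
set_option linter.style.haveILetI false
set_option maxHeartbeats 800000

universe u

open CategoryTheory AlgebraicGeometry TopologicalSpace Opposite

namespace Groth.Agent.H7SmoothCrit

/-- A family independent in a vector space has nonzero wedge over a ring mapping to the field. -/
theorem ιMulti_ne_zero {A K M V : Type u} [CommRing A] [Field K] [Algebra A K] [AddCommGroup M] [Module A M]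
    [AddCommGroup V] [Module A V] [Module K V] [IsScalarTower A K V] (ψ : M →ₗ[A] V) {m : ℕ} (v : Fin m → M)
    (hv : LinearIndependent K (ψ ∘ v)) : exteriorPower.ιMulti A m v ≠ 0 := by
  classical
  obtain ⟨l, hl⟩ := LinearMap.exists_leftInverse_of_injective
    (Fintype.linearCombination K (ψ ∘ v)) (LinearMap.ker_eq_bot.2 hv.fintypeLinearCombination_injective)
  let D : (Fin m → K) [⋀^Fin m]→ₗ[A] K :=
    { (Matrix.detRowAlternating (n := Fin m) (R := K)).toMultilinearMap.restrictScalars A with
      map_eq_zero_of_eq' := fun w i j h hij => (Matrix.detRowAlternating (n := Fin m) (R := K)).map_eq_zero_of_eq w h hij }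
  intro h0
  have h1 := congrArg (exteriorPower.alternatingMapLinearEquiv (D.compLinearMap ((l.restrictScalars A).comp ψ))) h0
  rw [exteriorPower.alternatingMapLinearEquiv_apply_ιMulti, map_zero] at h1
  refine one_ne_zero (α := K) (Eq.trans ?_ h1)
  have hl' : ∀ i, l (ψ (v i)) = (Pi.single i 1 : Fin m → K) := fun i => by
    have := LinearMap.congr_fun hl (Pi.single i 1)
    rw [LinearMap.comp_apply, Fintype.linearCombination_apply_single, one_smul] at this
    exact this
  show (1 : K) = Matrix.det (Matrix.of fun i => l (ψ (v i)))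
  rw [show (Matrix.of fun i => l (ψ (v i))) = (1 : Matrix (Fin m) (Fin m) K) by
    ext i j
    rw [Matrix.of_apply, hl' i, Matrix.one_apply, Pi.single_apply]
    simp only [eq_comm], Matrix.det_one]

/-- Global sections independent at the generic point wedge to a nonzero section. -/
theorem exists_ne_zero_wedge {X : Scheme.{u}} [IsIntegral X] {m : ℕ} (E L : X.Modules)
    (φ : ∀ U : X.affineOpens, (L.val.obj (op U.1)) ≃ₗ[Γ(X, U.1)] ↥(⋀[Γ(X, U.1)]^m (E.val.obj (op U.1))))
    (hφ : ∀ (U V : X.affineOpens) (h : V.1 ≤ U.1) (e : Fin m → E.val.obj (op U.1)),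
      L.val.map (homOfLE h).op ((φ U).symm (exteriorPower.ιMulti _ m e)) =
        (φ V).symm (exteriorPower.ιMulti _ m (fun j => E.val.map (homOfLE h).op (e j))))
    (s : Fin m → Γ(E, ⊤)) (hs : LinearIndependent (X.presheaf.stalk (genericPoint X))
      fun i => E.presheaf.germ ⊤ (genericPoint X) trivial (s i))
    (U W : X.Opens) (hW : IsAffineOpen W) (hξW : genericPoint X ∈ W) (hWU : W ≤ U) :
    ∃ t : L.val.obj (op U), t ≠ 0 := by
  let w : ∀ V : X.affineOpens, Γ(L, V.1) := fun V =>
    (φ V).symm (exteriorPower.ιMulti _ m fun j => E.presheaf.map (homOfLE (le_top : V.1 ≤ ⊤)).op (s j))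
  have hw : ∀ (V V' : X.affineOpens) (h : V'.1 ≤ V.1), L.presheaf.map (homOfLE h).op (w V) = w V' := by
    intro V V' h
    refine (hφ V V' h _).trans ?_
    refine congrArg (fun z => (φ V').symm (exteriorPower.ιMulti _ m z)) (funext fun j => ?_)
    show E.presheaf.map (homOfLE h).op (E.presheaf.map (homOfLE (le_top : V.1 ≤ ⊤)).op (s j)) = _
    rw [← ConcreteCategory.comp_apply, ← Functor.map_comp]
    rfl
  obtain ⟨g, hg⟩ := H17.AffHom.exists_hom (M := Coh.structureModule X) (N := L)
    (fun V => LinearMap.toSpanSingleton Γ(X, V.1) Γ(L, V.1) (w V)) (fun V V' h x => by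
      show (X.presheaf.map (homOfLE h).op x) • w V' = L.presheaf.map (homOfLE h).op ((show Γ(X, V.1) from x) • w V)
      rw [Scheme.Modules.map_smul, hw V V' h])
  refine ⟨g.app U (H10Coh.oneSec U), fun h0 => ?_⟩
  have h1 : g.app W (H10Coh.oneSec W) = 0 := by
    have := H11Tilde.app_map_apply g hWU (H10Coh.oneSec U)
    rw [show (Coh.structureModule X).presheaf.map (homOfLE hWU).op (H10Coh.oneSec U) = H10Coh.oneSec W from
      map_one (X.presheaf.map (homOfLE hWU).op).hom] at this
    exact this.trans ((congrArg _ h0).trans (map_zero _))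
  rw [hg ⟨W, hW⟩] at h1
  replace h1 : w ⟨W, hW⟩ = 0 := (one_smul Γ(X, W) _).symm.trans h1
  letI : Field (X.presheaf.stalk (genericPoint X)) := inferInstanceAs (Field X.functionField)
  letI : Algebra Γ(X, W) (X.presheaf.stalk (genericPoint X)) := (X.presheaf.germ W _ hξW).hom.toAlgebra
  letI : Module Γ(X, W) (E.presheaf.stalk (genericPoint X)) :=
    Module.compHom _ (X.presheaf.germ W (genericPoint X) hξW).hom
  haveI : IsScalarTower Γ(X, W) (X.presheaf.stalk (genericPoint X)) (E.presheaf.stalk (genericPoint X)) :=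
    .of_algebraMap_smul fun _ _ => rfl
  let ψ : Γ(E, W) →ₗ[Γ(X, W)] E.presheaf.stalk (genericPoint X) :=
    { toFun := E.presheaf.germ W (genericPoint X) hξW
      map_add' := map_add _
      map_smul' := H06Mod.germ_smul E W hξW }
  refine ιMulti_ne_zero (K := X.presheaf.stalk (genericPoint X)) ψ (fun j => E.presheaf.map (homOfLE (le_top : W ≤ ⊤)).op (s j)) ?_
    ((LinearEquiv.map_eq_zero_iff (φ ⟨W, hW⟩).symm).1 h1)
  have heq : (⇑ψ ∘ fun j => E.presheaf.map (homOfLE (le_top : W ≤ ⊤)).op (s j)) =
      fun i => E.presheaf.germ ⊤ (genericPoint X) trivial (s i) :=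
    funext fun j => E.presheaf.germ_res_apply _ _ hξW (s j)
  rw [heq]
  exact hs

end Groth.Agent.H7SmoothCrit
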