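import Groth.Agent.H7SmoothCrit.Stalk
import Groth.Agent.H27CurveDiv.RelDim
import Groth.Agent.H28RR.Omega
import Groth.Prelude.Def_FixPt

/-!
# Smooth maps of smooth varieties
-/

set_option autoImplicit false
set_option linter.style.haveILetI false
set_option backward.isDefEq.respectTransparency false

universe u

open CategoryTheory CategoryTheory.Limits AlgebraicGeometry TopologicalSpace Opposite

namespace Groth.Agent.H7SmoothCrit

theorem smooth_of_closed_points {X Y : Scheme.{u}} (f : X ⟶ Y) [LocallyOfFinitePresentation f] [JacobsonSpace X]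
    (h : ∀ x : X, IsClosed ({x} : Set X) → (f.stalkMap x).hom.FormallySmooth) : Smooth f := by
  rw [← Scheme.Hom.smoothLocus_eq_top_iff]
  by_contra hne
  obtain ⟨x, hx, hxc⟩ := nonempty_inter_closedPoints (Z := ((f.smoothLocus : Set X))ᶜ)
    (Set.nonempty_compl.2 fun h => hne (TopologicalSpace.Opens.ext h)) f.smoothLocus.2.isClosed_compl.isLocallyClosed
  exact hx (h x (mem_closedPoints_iff.1 hxc))

theorem smoothOfRelativeDimension_of_comp {k : Type u} [Field k] {X Y : Scheme.{u}}
    (qY : Y ⟶ Spec (CommRingCat.of k)) (f : X ⟶ Y) [Smooth f] (n m : ℕ)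
    [SmoothOfRelativeDimension m qY] [SmoothOfRelativeDimension (n + m) (f ≫ qY)] :
    SmoothOfRelativeDimension n f := by
  refine ⟨fun x => ?_⟩
  obtain ⟨V, hV, U, hU, hxU, e, hs⟩ := Smooth.exists_isStandardSmooth f x
  obtain ⟨d, hd⟩ : ∃ d, (f.appLE V U e).hom.IsStandardSmoothOfRelativeDimension d := by
    algebraize [(f.appLE V U e).hom]
    obtain ⟨ι, σ, hσ, hι, ⟨P⟩⟩ := (inferInstance : Algebra.IsStandardSmooth Γ(Y, V) Γ(X, U)).out
    exact ⟨P.dimension, ⟨ι, σ, hσ, hι, P, rfl⟩⟩
  haveI : IsAffine (U : Scheme.{u}) := hU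
  haveI : IsAffine (V : Scheme.{u}) := hV
  haveI : SmoothOfRelativeDimension d (f.resLE V U e) := by
    rw [HasRingHomProperty.iff_of_isAffine (P := @SmoothOfRelativeDimension d)]
    haveI := RingHom.toMorphismProperty_respectsIso_iff.mp
      (RingHom.isStandardSmoothOfRelativeDimension_respectsIso (n := d))
    exact RingHom.locally_of RingHom.isStandardSmoothOfRelativeDimension_respectsIso _
      (((RingHom.toMorphismProperty fun {R S} _ _ f =>
        RingHom.IsStandardSmoothOfRelativeDimension (R := R) (S := S) d f).arrow_mk_iso_iff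
          (arrowResLEAppIso f V U e)).mpr hd)
  haveI : SmoothOfRelativeDimension (0 + m) (V.ι ≫ qY) := inferInstance
  haveI : SmoothOfRelativeDimension m (V.ι ≫ qY) := by simpa using ‹SmoothOfRelativeDimension (0 + m) _›
  have h1 : SmoothOfRelativeDimension (d + m) (f.resLE V U e ≫ V.ι ≫ qY) := inferInstance
  rw [Scheme.Hom.resLE_comp_ι_assoc] at h1
  have h2 : SmoothOfRelativeDimension (n + m) (U.ι ≫ f ≫ qY) := by
    have := (inferInstance : SmoothOfRelativeDimension (0 + (n + m)) (U.ι ≫ f ≫ qY))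
    simpa using this
  have a := H8Props.FieldDim.localDim_eq_of_smooth (U.ι ≫ f ≫ qY) (d + m) ⟨x, hxU⟩
  have b := H8Props.FieldDim.localDim_eq_of_smooth (U.ι ≫ f ≫ qY) (n + m) ⟨x, hxU⟩
  have hdn : d + m = n + m := by exact_mod_cast a.symm.trans b
  exact ⟨V, hV, U, hU, hxU, e, (Nat.add_right_cancel hdn) ▸ hd⟩

section crit

variable {k : Type u} [Field k] {X Y : Scheme.{u}} (f : X ⟶ Y) (qY : Y ⟶ Spec (CommRingCat.of k))
  (n m : ℕ) [SmoothOfRelativeDimension m qY] [SmoothOfRelativeDimension (n + m) (f ≫ qY)]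
  [QuasiSeparated qY] [QuasiSeparated (f ≫ qY)]

include qY n m

theorem injective_cotangent_iff_formallySmooth [IsAlgClosed k] (x : X) (hx : IsClosed ({x} : Set X)) :
    (f.stalkMap x).hom.FormallySmooth ↔
      Function.Injective (FixPt.cotangentMapAt f x (f x) rfl) := by
  haveI : Smooth qY := SmoothOfRelativeDimension.smooth m qY
  haveI : Smooth (f ≫ qY) := SmoothOfRelativeDimension.smooth (n + m) _
  letI := (topAlg (f ≫ qY) x).toAlgebra
  letI := (topAlg qY (f x)).toAlgebra
  letI := (f.stalkMap x).hom.toAlgebra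
  haveI : IsScalarTower Γ(Spec (CommRingCat.of k), ⊤) (Y.presheaf.stalk (f x)) (X.presheaf.stalk x) :=
    .of_algebraMap_eq' (topAlg_comp f qY x)
  haveI : IsLocalHom (algebraMap (Y.presheaf.stalk (f x)) (X.presheaf.stalk x)) :=
    inferInstanceAs (IsLocalHom (f.stalkMap x).hom)
  haveI := formallySmooth_stalk_top qY (f x)
  haveI := formallySmooth_stalk_top (f ≫ qY) x
  obtain ⟨hR1, hR2, -⟩ := omega_stalk_top (f ≫ qY) (n + m) (H28RR.isFinLocFreeOfRank_omega _ (n + m)) x
  obtain ⟨hP1, hP2, -⟩ := omega_stalk_top qY m (H28RR.isFinLocFreeOfRank_omega _ m) (f x)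
  have hκ := residueField_bijective (f ≫ qY) x hx
  haveI := hR1; haveI := hR2; haveI := hP1; haveI := hP2
  have hf : IsField Γ(Spec (CommRingCat.of k), ⊤) :=
    (Scheme.ΓSpecIso (CommRingCat.of k)).commRingCatIsoToRingEquiv.toMulEquiv.isField (Field.toIsField k)
  letI := hf.toField
  have hmap : FixPt.stalkMapAt f x (f x) rfl = algebraMap (Y.presheaf.stalk (f x)) (X.presheaf.stalk x) := by
    simp [FixPt.stalkMapAt, RingHom.algebraMap_toAlgebra]
  rw [show (f.stalkMap x).hom.FormallySmooth ↔ Algebra.FormallySmooth (Y.presheaf.stalk (f x)) (X.presheaf.stalk x)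
    from RingHom.formallySmooth_algebraMap]
  have key : Algebra.FormallySmooth (Y.presheaf.stalk (f x)) (X.presheaf.stalk x) ↔
      ∀ a ∈ IsLocalRing.maximalIdeal (Y.presheaf.stalk (f x)),
        algebraMap _ (X.presheaf.stalk x) a ∈ IsLocalRing.maximalIdeal (X.presheaf.stalk x) ^ 2 →
          a ∈ IsLocalRing.maximalIdeal (Y.presheaf.stalk (f x)) ^ 2 := by
    rw [← lTensor_mapBaseChange_injective_iff Γ(Spec (CommRingCat.of k), ⊤) hκ.2,
      ← IsLocalRing.split_injective_iff_lTensor_residueField_injective]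
    refine ⟨fun h => exists_split _ _ _, fun h => ?_⟩
    haveI := projective_of_split _ _ _ h
    obtain ⟨l, hl⟩ := h
    exact formallySmooth_of_injective Γ(Spec (CommRingCat.of k), ⊤) _ _
      (Function.LeftInverse.injective (g := l) fun v => congr($hl v))
  rw [key, injective_iff_map_eq_zero]
  constructor
  · intro h v hv
    obtain ⟨⟨a, ha⟩, rfl⟩ := Ideal.toCotangent_surjective _ v
    rw [FixPt.cotangentMapAt, Ideal.mapCotangent_toCotangent, Ideal.toCotangent_eq_zero] at hv
    rw [Ideal.toCotangent_eq_zero]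
    exact h a ha (by rw [← hmap]; exact hv)
  · intro h a ha ha'
    have := h (Ideal.toCotangent _ ⟨a, ha⟩) (by
      rw [FixPt.cotangentMapAt, Ideal.mapCotangent_toCotangent, Ideal.toCotangent_eq_zero]
      rw [← hmap] at ha'; exact ha')
    rwa [Ideal.toCotangent_eq_zero] at this

theorem formallySmooth_of_omega [QuasiSeparated f]
    (h : FlatMod.IsFinLocFreeOfRank n (Omega.sheaf f)) (x : X) : (f.stalkMap x).hom.FormallySmooth := by
  haveI : Smooth qY := SmoothOfRelativeDimension.smooth m qY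
  haveI : Smooth (f ≫ qY) := SmoothOfRelativeDimension.smooth (n + m) _
  obtain ⟨_, ⟨V, hV, rfl⟩, hxV, -⟩ :=
    Y.isBasis_affineOpens.exists_subset_of_mem_open (Set.mem_univ (f x)) isOpen_univ
  replace hV : IsAffineOpen V := hV
  letI := (topAlg (f ≫ qY) x).toAlgebra
  letI := (topAlg qY (f x)).toAlgebra
  letI := (f.stalkMap x).hom.toAlgebra
  letI := ((Y.presheaf.germ V (f x) hxV) ≫ f.stalkMap x).hom.toAlgebra
  letI : Algebra Γ(Y, V) (Y.presheaf.stalk (f x)) := (Y.presheaf.germ V (f x) hxV).hom.toAlgebra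
  haveI : IsScalarTower Γ(Spec (CommRingCat.of k), ⊤) (Y.presheaf.stalk (f x)) (X.presheaf.stalk x) :=
    .of_algebraMap_eq' (topAlg_comp f qY x)
  haveI : IsScalarTower Γ(Y, V) (Y.presheaf.stalk (f x)) (X.presheaf.stalk x) := .of_algebraMap_eq' rfl
  haveI := formallySmooth_stalk_top qY (f x)
  haveI := formallySmooth_stalk_top (f ≫ qY) x
  obtain ⟨hR1, hR2, hR3⟩ := omega_stalk_top (f ≫ qY) (n + m) (H28RR.isFinLocFreeOfRank_omega _ (n + m)) x
  obtain ⟨hP1, hP2, hP3⟩ := omega_stalk_top qY m (H28RR.isFinLocFreeOfRank_omega _ m) (f x)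
  obtain ⟨hA1, hA2, hA3⟩ := omega_stalk f n h hV x hxV
  haveI : IsLocalization.AtPrime (Y.presheaf.stalk (f x)) (hV.primeIdealOf ⟨f x, hxV⟩).asIdeal :=
    hV.isLocalization_stalk ⟨f x, hxV⟩
  haveI : Algebra.FormallyUnramified Γ(Y, V) (Y.presheaf.stalk (f x)) :=
    Algebra.FormallyUnramified.of_isLocalization (hV.primeIdealOf ⟨f x, hxV⟩).asIdeal.primeCompl
  haveI : Subsingleton Ω[Y.presheaf.stalk (f x)⁄Γ(Y, V)] := (Algebra.formallyUnramified_iff _ _).mp inferInstance
  let ψ := KaehlerDifferential.map Γ(Y, V) (Y.presheaf.stalk (f x)) (X.presheaf.stalk x) (X.presheaf.stalk x)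
  have hψ : Function.Bijective ψ := ⟨(injective_iff_map_eq_zero _).2 fun v hv => by
      obtain ⟨w, rfl⟩ := (KaehlerDifferential.exact_mapBaseChange_map Γ(Y, V) (Y.presheaf.stalk (f x))
        (X.presheaf.stalk x) v).1 hv
      rw [Subsingleton.elim w 0, map_zero],
    KaehlerDifferential.map_surjective _ _ _⟩
  let e := LinearEquiv.ofBijective ψ hψ
  haveI := hR1; haveI := hR2; haveI := hP1; haveI := hP2; haveI := hA1; haveI := hA2
  haveI : Module.Free (X.presheaf.stalk x) Ω[X.presheaf.stalk x⁄Y.presheaf.stalk (f x)] := Module.Free.of_equiv e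
  haveI : Module.Finite (X.presheaf.stalk x) Ω[X.presheaf.stalk x⁄Y.presheaf.stalk (f x)] := Module.Finite.equiv e
  have hn : Module.finrank (X.presheaf.stalk x) Ω[X.presheaf.stalk x⁄Y.presheaf.stalk (f x)] = n :=
    e.finrank_eq.symm.trans hA3
  rw [show (f.stalkMap x).hom.FormallySmooth ↔ Algebra.FormallySmooth (Y.presheaf.stalk (f x)) (X.presheaf.stalk x)
    from RingHom.formallySmooth_algebraMap]
  exact formallySmooth_of_injective Γ(Spec (CommRingCat.of k), ⊤) _ _
    (injective_of_rank _ _ _ (by rw [hR3, hP3, hn, add_comm]))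

end crit

end Groth.Agent.H7SmoothCrit
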