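import Mathlib
import Groth.Agent.H28RR.Omega

/-!
# Smoothness of a map of smooth algebras from its differentials
-/

set_option autoImplicit false

universe u

open TensorProduct KaehlerDifferential IsLocalRing

namespace Groth.Agent.H7SmoothCrit

section crit

variable (k A R : Type u) [CommRing k] [CommRing A] [CommRing R] [Algebra k A] [Algebra k R] [Algebra A R]
  [IsScalarTower k A R]

theorem formallySmooth_of_injective [Algebra.FormallySmooth k R]
    (hinj : Function.Injective (mapBaseChange k A R)) [Module.Projective R Ω[R⁄A]] :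
    Algebra.FormallySmooth A R := by
  have h1 := ((Algebra.formallySmooth_iff k R).1 inferInstance).2
  rw [Algebra.formallySmooth_iff]
  refine ⟨inferInstance, subsingleton_of_forall_eq 0 fun x => ?_⟩
  have hx : Algebra.H1Cotangent.δ k A R x = 0 :=
    hinj (by rw [map_zero]; exact (Algebra.H1Cotangent.exact_δ_mapBaseChange k A R _).2 ⟨x, rfl⟩)
  obtain ⟨y, rfl⟩ := (Algebra.H1Cotangent.exact_map_δ k A R x).1 hx
  rw [h1.elim y 0, map_zero]

theorem exists_split [Algebra.FormallySmooth A R] :
    ∃ l, l ∘ₗ mapBaseChange k A R = LinearMap.id := by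
  obtain ⟨hp, hs⟩ := (Algebra.formallySmooth_iff A R).1 inferInstance
  have hinj : Function.Injective (mapBaseChange k A R) :=
    (injective_iff_map_eq_zero _).2 fun x hx => by
      obtain ⟨y, rfl⟩ := (Algebra.H1Cotangent.exact_δ_mapBaseChange k A R x).1 hx
      rw [hs.elim y 0, map_zero]
  exact ((Function.Exact.split_tfae (exact_mapBaseChange_map k A R) hinj (KaehlerDifferential.map_surjective k A R)).out
    0 1).1 (Module.projective_lifting_property _ _ (KaehlerDifferential.map_surjective k A R))

theorem projective_of_split [Module.Projective R Ω[R⁄k]]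
    (h : ∃ l, l ∘ₗ mapBaseChange k A R = LinearMap.id) : Module.Projective R Ω[R⁄A] := by
  obtain ⟨l, hl⟩ := h
  have hinj : Function.Injective (mapBaseChange k A R) :=
    Function.LeftInverse.injective (g := l) fun x => congr($hl x)
  have ex : ∃ l, l ∘ₗ mapBaseChange k A R = LinearMap.id := ⟨l, hl⟩
  obtain ⟨s, hs⟩ := ((Function.Exact.split_tfae (exact_mapBaseChange_map k A R) hinj
    (KaehlerDifferential.map_surjective k A R)).out 0 1).2 ex
  exact Module.Projective.of_split s (KaehlerDifferential.map k A R R) hs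

theorem injective_of_rank [Nontrivial R] [Nontrivial A] [Module.Free A Ω[A⁄k]] [Module.Finite A Ω[A⁄k]]
    [Module.Free R Ω[R⁄k]] [Module.Finite R Ω[R⁄k]] [Module.Free R Ω[R⁄A]] [Module.Finite R Ω[R⁄A]]
    (h : Module.finrank R Ω[R⁄k] = Module.finrank A Ω[A⁄k] + Module.finrank R Ω[R⁄A]) :
    Function.Injective (mapBaseChange k A R) :=
  H28RR.injective_of_exact_rank (mapBaseChange k A R) (KaehlerDifferential.map k A R R)
    (fun b hb => (exact_mapBaseChange_map k A R b).1 hb) (KaehlerDifferential.map_surjective k A R)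
    (by rw [h, Module.finrank_baseChange])

end crit

section rational

variable (k : Type u) [Field k] {P R : Type u} [CommRing P] [IsLocalRing P] [CommRing R] [IsLocalRing R]
  [Algebra k P] [Algebra k R] [Algebra P R] [IsScalarTower k P R]
  [Algebra.FormallySmooth k P] [Algebra.FormallySmooth k R]

/-- At a rational point the class of `D a` vanishes in the fibre exactly when `a` lies in the square. -/
theorem D_tmul_eq_zero_iff (K : Type u) [CommRing K] [Algebra k K] [Algebra P K] [IsScalarTower k P K]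
    (hk : Function.Bijective (algebraMap k K)) (hs : Function.Surjective (algebraMap P K))
    {a : P} (ha : a ∈ RingHom.ker (algebraMap P K)) :
    (1 : K) ⊗ₜ[P] D k P a = 0 ↔ a ∈ RingHom.ker (algebraMap P K) ^ 2 := by
  haveI : Algebra.FormallySmooth k K :=
    .of_equiv (AlgEquiv.ofBijective (Algebra.ofId k K) hk)
  have hinj : Function.Injective (kerCotangentToTensor k P K) :=
    (Algebra.FormallySmooth.kerCotangentToTensor_injective_iff hs).2
      ((Algebra.formallySmooth_iff k K).1 inferInstance).2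
  rw [← kerCotangentToTensor_toCotangent k P K ⟨a, ha⟩, map_eq_zero_iff _ hinj,
    Ideal.toCotangent_eq_zero]

theorem exists_eq_D (hκ : Function.Surjective (algebraMap k (ResidueField R)))
    [IsLocalHom (algebraMap P R)] (v : ResidueField R ⊗[R] (R ⊗[P] Ω[P⁄k])) :
    ∃ a ∈ maximalIdeal P, v = 1 ⊗ₜ (1 ⊗ₜ D k P a) := by
  have key : ∀ (q : P) (y : Ω[P⁄k]), (1 : ResidueField R) ⊗ₜ[R] ((1 : R) ⊗ₜ[P] (q • y)) =
      residue R (algebraMap P R q) ⊗ₜ[R] ((1 : R) ⊗ₜ[P] y) := by
    intro q y
    rw [tmul_smul q (1 : R) y, ← algebraMap_smul R q ((1 : R) ⊗ₜ[P] y), tmul_smul, smul_tmul', Algebra.smul_def,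
      mul_one, ResidueField.algebraMap_eq]
  have hD : ∀ ω : Ω[P⁄k], ∃ a ∈ maximalIdeal P,
      (1 : ResidueField R) ⊗ₜ[R] ((1 : R) ⊗ₜ[P] ω) = 1 ⊗ₜ (1 ⊗ₜ D k P a) := by
    intro ω
    have hω : ω ∈ Submodule.span P (Set.range (D k P)) := by rw [span_range_derivation]; trivial
    induction hω using Submodule.span_induction with
    | zero => exact ⟨0, Ideal.zero_mem _, by simp⟩
    | add x y _ _ hx hy =>
      obtain ⟨a, ha, e₁⟩ := hx
      obtain ⟨b, hb, e₂⟩ := hy
      exact ⟨a + b, Ideal.add_mem _ ha hb, by rw [tmul_add, tmul_add, e₁, e₂, map_add, tmul_add, tmul_add]⟩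
    | smul p x _ hx =>
      obtain ⟨a, ha, e⟩ := hx
      obtain ⟨μ, hμ⟩ := hκ (residue R (algebraMap P R p))
      refine ⟨algebraMap k P μ * a, Ideal.mul_mem_left _ _ ha, ?_⟩
      rw [Derivation.leibniz, Derivation.map_algebraMap, smul_zero, add_zero, key, key,
        ← mul_one (residue R (algebraMap P R p)), ← IsScalarTower.algebraMap_apply k P R,
        show residue R (algebraMap k R μ) = residue R (algebraMap P R p) from
          (IsScalarTower.algebraMap_apply k R (ResidueField R) μ).symm.trans hμ, mul_one]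
      obtain ⟨r, hr⟩ := residue_surjective (R := R) (residue R (algebraMap P R p))
      calc residue R (algebraMap P R p) ⊗ₜ[R] ((1 : R) ⊗ₜ[P] x)
          = (algebraMap P R p) • ((1 : ResidueField R) ⊗ₜ[R] ((1 : R) ⊗ₜ[P] x)) := by
            rw [smul_tmul', Algebra.smul_def, mul_one, ResidueField.algebraMap_eq]
        _ = _ := by rw [e, smul_tmul', Algebra.smul_def, mul_one, ResidueField.algebraMap_eq]
    | mem x hx =>
      obtain ⟨b, rfl⟩ := hx
      obtain ⟨μ, hμ⟩ := hκ (residue R (algebraMap P R b))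
      refine ⟨b - algebraMap k P μ, ?_, by rw [map_sub, Derivation.map_algebraMap, sub_zero]⟩
      rw [mem_maximalIdeal, mem_nonunits_iff, ← isUnit_map_iff (algebraMap P R), ← mem_nonunits_iff,
        ← mem_maximalIdeal, ← residue_eq_zero_iff, map_sub, map_sub, ← IsScalarTower.algebraMap_apply,
        sub_eq_zero, ← hμ]
      exact IsScalarTower.algebraMap_apply k R (ResidueField R) μ
  induction v using TensorProduct.induction_on with
  | zero => exact ⟨0, Ideal.zero_mem _, by simp⟩
  | add x y hx hy =>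
    obtain ⟨a, ha, rfl⟩ := hx
    obtain ⟨b, hb, rfl⟩ := hy
    exact ⟨a + b, Ideal.add_mem _ ha hb, by rw [map_add, tmul_add, tmul_add]⟩
  | tmul c w =>
    induction w using TensorProduct.induction_on with
    | zero => exact ⟨0, Ideal.zero_mem _, by simp⟩
    | add x y hx hy =>
      obtain ⟨a, ha, e₁⟩ := hx
      obtain ⟨b, hb, e₂⟩ := hy
      exact ⟨a + b, Ideal.add_mem _ ha hb, by rw [tmul_add, e₁, e₂, map_add, tmul_add, tmul_add]⟩
    | tmul r ω =>
      obtain ⟨l, hl⟩ := hκ (c * residue R r)
      obtain ⟨a, ha, e⟩ := hD (algebraMap k P l • ω)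
      refine ⟨a, ha, ?_⟩
      rw [← e, key, ← IsScalarTower.algebraMap_apply k P R,
        show residue R (algebraMap k R l) = c * residue R r from
          (IsScalarTower.algebraMap_apply k R (ResidueField R) l).symm.trans hl,
        show r ⊗ₜ[P] ω = r • ((1 : R) ⊗ₜ[P] ω) by rw [smul_tmul', smul_eq_mul, mul_one],
        tmul_smul, smul_tmul', Algebra.smul_def, ResidueField.algebraMap_eq, mul_comm]

theorem lTensor_mapBaseChange_injective_iff (hκ : Function.Surjective (algebraMap k (ResidueField R)))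
    [IsLocalHom (algebraMap P R)] :
    Function.Injective ((mapBaseChange k P R).lTensor (ResidueField R)) ↔
      ∀ a ∈ maximalIdeal P, algebraMap P R a ∈ maximalIdeal R ^ 2 → a ∈ maximalIdeal P ^ 2 := by
  have hb : Function.Bijective (algebraMap k (ResidueField R)) := ⟨(algebraMap k _).injective, hκ⟩
  have hsP : Function.Surjective (algebraMap P (ResidueField R)) := fun c => by
    obtain ⟨l, rfl⟩ := hκ c
    exact ⟨algebraMap k P l, (IsScalarTower.algebraMap_apply k P _ l).symm⟩
  have hkP : RingHom.ker (algebraMap P (ResidueField R)) = maximalIdeal P := by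
    ext a
    rw [RingHom.mem_ker, IsScalarTower.algebraMap_apply P R (ResidueField R), ResidueField.algebraMap_eq,
      residue_eq_zero_iff, mem_maximalIdeal, mem_maximalIdeal, mem_nonunits_iff, mem_nonunits_iff, isUnit_map_iff]
  have hkR : RingHom.ker (algebraMap R (ResidueField R)) = maximalIdeal R := ker_residue
  have e : ∀ a : P, (mapBaseChange k P R).lTensor (ResidueField R) (1 ⊗ₜ (1 ⊗ₜ D k P a)) =
      1 ⊗ₜ D k R (algebraMap P R a) := by
    intro a; simp
  have hP : ∀ a ∈ maximalIdeal P, ((1 : ResidueField R) ⊗ₜ[R] ((1 : R) ⊗ₜ[P] D k P a) = 0 ↔ a ∈ maximalIdeal P ^ 2) := by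
    intro a ha
    rw [← LinearEquiv.map_eq_zero_iff (AlgebraTensorModule.cancelBaseChange P R (ResidueField R) (ResidueField R) Ω[P⁄k]),
      AlgebraTensorModule.cancelBaseChange_tmul, one_smul,
      D_tmul_eq_zero_iff k (ResidueField R) hb hsP (hkP.symm ▸ ha), hkP]
  have hR : ∀ b ∈ maximalIdeal R, ((1 : ResidueField R) ⊗ₜ[R] D k R b = 0 ↔ b ∈ maximalIdeal R ^ 2) := by
    intro b hb'
    rw [D_tmul_eq_zero_iff k (ResidueField R) hb residue_surjective (hkR.symm ▸ hb'), hkR]
  have hloc : ∀ a ∈ maximalIdeal P, algebraMap P R a ∈ maximalIdeal R := fun a ha => by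
    rwa [mem_maximalIdeal, mem_nonunits_iff, isUnit_map_iff, ← mem_nonunits_iff, ← mem_maximalIdeal]
  constructor
  · intro h a ha ha'
    rw [← hP a ha]
    exact h (by rw [e, map_zero, hR _ (hloc a ha)]; exact ha')
  · intro h
    refine (injective_iff_map_eq_zero _).2 fun v hv => ?_
    obtain ⟨a, ha, rfl⟩ := exists_eq_D k hκ v
    rw [e, hR _ (hloc a ha)] at hv
    exact (hP a ha).2 (h a ha hv)

end rational

end Groth.Agent.H7SmoothCrit
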