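import Groth.Agent.H7SmoothCrit.Ring
import Groth.Agent.H17.OmegaLocal
import Groth.Agent.H8Props.FinLocFree.Sheaf
import Groth.Agent.H8Props.FieldDimSmooth

/-!
# Differentials on stalks, and smoothness at a point from differentials
-/

set_option autoImplicit false
set_option linter.style.haveILetI false
set_option backward.isDefEq.respectTransparency false

universe u

open CategoryTheory CategoryTheory.Limits AlgebraicGeometry TopologicalSpace Opposite

namespace Groth.Agent.H7SmoothCrit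

variable {X Y S : Scheme.{u}}

theorem appLE_germ (f : X ⟶ Y) {V : Y.Opens} {U : X.Opens} (e : U ≤ f ⁻¹ᵁ V) (x : X) (hx : x ∈ U) :
    f.appLE V U e ≫ X.presheaf.germ U x hx = Y.presheaf.germ V (f x) (e hx) ≫ f.stalkMap x := by
  rw [Scheme.Hom.appLE, Category.assoc, X.presheaf.germ_res', Scheme.Hom.germ_stalkMap]

/-- The global functions of the base act on the stalks. -/
noncomputable abbrev topAlg (q : X ⟶ S) (x : X) : Γ(S, ⊤) →+* X.presheaf.stalk x :=
  (q.appTop ≫ X.presheaf.germ ⊤ x trivial).hom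

theorem topAlg_comp (f : X ⟶ Y) (q : Y ⟶ S) (x : X) :
    topAlg (f ≫ q) x = (f.stalkMap x).hom.comp (topAlg q (f x)) := by
  simp only [topAlg, ← CommRingCat.hom_comp, Category.assoc, Scheme.Hom.germ_stalkMap, Scheme.Hom.comp_appTop]
  rfl

theorem topAlg_eq (q : X ⟶ S) {U : X.Opens} (e : U ≤ q ⁻¹ᵁ ⊤) (x : X) (hx : x ∈ U) :
    topAlg q x = (X.presheaf.germ U x hx).hom.comp (q.appLE ⊤ U e).hom := by
  simp only [topAlg, ← CommRingCat.hom_comp, appLE_germ q e x hx, Scheme.Hom.germ_stalkMap, Scheme.Hom.appTop]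
  rfl

/-- A sheaf of differentials which is free of rank `r` gives free stalks of differentials. -/
theorem omega_stalk (g : X ⟶ S) [QuasiSeparated g] (r : ℕ) (h : FlatMod.IsFinLocFreeOfRank r (Omega.sheaf g))
    {V : S.Opens} (hV : IsAffineOpen V) (x : X) (hxV : g x ∈ V) :
    letI := ((S.presheaf.germ V (g x) hxV) ≫ g.stalkMap x).hom.toAlgebra
    Module.Free (X.presheaf.stalk x) Ω[X.presheaf.stalk x⁄Γ(S, V)] ∧
      Module.Finite (X.presheaf.stalk x) Ω[X.presheaf.stalk x⁄Γ(S, V)] ∧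
      Module.finrank (X.presheaf.stalk x) Ω[X.presheaf.stalk x⁄Γ(S, V)] = r := by
  obtain ⟨W, hxW, ⟨tr⟩⟩ := h x
  obtain ⟨_, ⟨U, hU, rfl⟩, hxU, hle⟩ := X.isBasis_affineOpens.exists_subset_of_mem_open
    (show x ∈ (W ⊓ g ⁻¹ᵁ V : X.Opens) from ⟨hxW, hxV⟩) (W ⊓ g ⁻¹ᵁ V).2
  replace hU : IsAffineOpen U := hU
  have e : U ≤ g ⁻¹ᵁ V := fun y hy => (hle hy).2
  obtain ⟨b⟩ := H8Props.FinLocFree.exists_basis_of_chart (Omega.sheaf g) tr (V := U) (fun y hy => (hle hy).1)
  have hiso := H17.OmegaLocal.isIso_toSect g hU hV e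
  let E := (asIso (OmAff.toSect g V U e)).toLinearEquiv
  letI := ((S.presheaf.germ V (g x) hxV) ≫ g.stalkMap x).hom.toAlgebra
  letI : Algebra Γ(S, V) Γ(X, U) := (g.appLE V U e).hom.toAlgebra
  letI : Algebra Γ(X, U) (X.presheaf.stalk x) := (X.presheaf.germ U x hxU).hom.toAlgebra
  haveI : IsScalarTower Γ(S, V) Γ(X, U) (X.presheaf.stalk x) := .of_algebraMap_eq' (by
    show (S.presheaf.germ V (g x) hxV ≫ g.stalkMap x).hom =
      (X.presheaf.germ U x hxU).hom.comp (g.appLE V U e).hom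
    rw [← CommRingCat.hom_comp, appLE_germ])
  haveI : IsLocalization.AtPrime (X.presheaf.stalk x) (hU.primeIdealOf ⟨x, hxU⟩).asIdeal :=
    hU.isLocalization_stalk ⟨x, hxU⟩
  haveI : Algebra.FormallyEtale Γ(X, U) (X.presheaf.stalk x) :=
    Algebra.FormallyEtale.of_isLocalization (hU.primeIdealOf ⟨x, hxU⟩).asIdeal.primeCompl
  let β : Module.Basis (Fin r) Γ(X, U) Ω[Γ(X, U)⁄Γ(S, V)] := b.map E.symm
  let β' := (β.baseChange (X.presheaf.stalk x)).map
    (KaehlerDifferential.tensorKaehlerEquivOfFormallyEtale Γ(S, V) Γ(X, U) (X.presheaf.stalk x))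
  exact ⟨Module.Free.of_basis β', Module.Finite.of_basis β', by
    rw [Module.finrank_eq_card_basis β', Fintype.card_fin]⟩

theorem omega_stalk_top [IsAffine S] (g : X ⟶ S) [QuasiSeparated g] (r : ℕ)
    (h : FlatMod.IsFinLocFreeOfRank r (Omega.sheaf g)) (x : X) :
    letI := (topAlg g x).toAlgebra
    Module.Free (X.presheaf.stalk x) Ω[X.presheaf.stalk x⁄Γ(S, ⊤)] ∧
      Module.Finite (X.presheaf.stalk x) Ω[X.presheaf.stalk x⁄Γ(S, ⊤)] ∧
      Module.finrank (X.presheaf.stalk x) Ω[X.presheaf.stalk x⁄Γ(S, ⊤)] = r := by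
  have H := omega_stalk g r h (isAffineOpen_top S) x trivial
  have e : topAlg g x = ((S.presheaf.germ ⊤ (g x) trivial) ≫ g.stalkMap x).hom := by
    simp only [topAlg, Scheme.Hom.germ_stalkMap, Scheme.Hom.appTop]
    rfl
  rw [e]; exact H

theorem formallySmooth_stalk_top [IsAffine S] (g : X ⟶ S) [Smooth g] (x : X) :
    letI := (topAlg g x).toAlgebra
    Algebra.FormallySmooth Γ(S, ⊤) (X.presheaf.stalk x) := by
  obtain ⟨_, ⟨U, hU, rfl⟩, hxU, -⟩ :=
    X.isBasis_affineOpens.exists_subset_of_mem_open (Set.mem_univ x) isOpen_univ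
  replace hU : IsAffineOpen U := hU
  letI := (topAlg g x).toAlgebra
  letI : Algebra Γ(S, ⊤) Γ(X, U) := (g.appLE ⊤ U le_top).hom.toAlgebra
  letI : Algebra Γ(X, U) (X.presheaf.stalk x) := (X.presheaf.germ U x hxU).hom.toAlgebra
  haveI : IsScalarTower Γ(S, ⊤) Γ(X, U) (X.presheaf.stalk x) := .of_algebraMap_eq' (topAlg_eq g le_top x hxU)
  haveI : Algebra.Smooth Γ(S, ⊤) Γ(X, U) := g.smooth_appLE (isAffineOpen_top S) hU le_top
  haveI : IsLocalization.AtPrime (X.presheaf.stalk x) (hU.primeIdealOf ⟨x, hxU⟩).asIdeal :=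
    hU.isLocalization_stalk ⟨x, hxU⟩
  haveI : Algebra.FormallySmooth Γ(X, U) (X.presheaf.stalk x) :=
    Algebra.FormallySmooth.of_isLocalization (hU.primeIdealOf ⟨x, hxU⟩).asIdeal.primeCompl
  exact Algebra.FormallySmooth.comp Γ(S, ⊤) Γ(X, U) (X.presheaf.stalk x)

theorem residueField_bijective {k : Type u} [Field k] [IsAlgClosed k] (g : X ⟶ Spec (CommRingCat.of k))
    [LocallyOfFiniteType g] (x : X) (hx : IsClosed ({x} : Set X)) :
    letI := (topAlg g x).toAlgebra
    Function.Bijective (algebraMap Γ(Spec (CommRingCat.of k), ⊤) (IsLocalRing.ResidueField (X.presheaf.stalk x))) := by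
  obtain ⟨_, ⟨U, hU, rfl⟩, hxU, -⟩ :=
    X.isBasis_affineOpens.exists_subset_of_mem_open (Set.mem_univ x) isOpen_univ
  replace hU : IsAffineOpen U := hU
  letI := (topAlg g x).toAlgebra
  let φ : CommRingCat.of k ⟶ Γ(X, U) := (Scheme.ΓSpecIso (CommRingCat.of k)).inv ≫ g.appLE ⊤ U le_top
  letI : Algebra k Γ(X, U) := φ.hom.toAlgebra
  haveI : Algebra.FiniteType k Γ(X, U) :=
    RingHom.finiteType_algebraMap.1 (RingHom.finiteType_respectsIso.2 _
      (Scheme.ΓSpecIso (CommRingCat.of k)).symm.commRingCatIsoToRingEquiv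
      (g.finiteType_appLE (isAffineOpen_top _) hU le_top))
  let q := (hU.primeIdealOf ⟨x, hxU⟩).asIdeal
  haveI hq : q.IsMaximal := (PrimeSpectrum.isClosed_singleton_iff_isMaximal _).1 (by
    have := hx.preimage hU.fromSpec.continuous
    have e : hU.fromSpec ⁻¹' {x} = {hU.primeIdealOf ⟨x, hxU⟩} :=
      (congrArg (fun y => hU.fromSpec ⁻¹' {y}) (hU.fromSpec_primeIdealOf ⟨x, hxU⟩)).symm.trans (by
        rw [← Set.image_singleton, hU.fromSpec.isOpenEmbedding.injective.preimage_image])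
    rwa [e] at this)
  letI : Field (Γ(X, U) ⧸ q) := Ideal.Quotient.field q
  haveI : Module.Finite k (Γ(X, U) ⧸ q) := finite_of_finite_type_of_isJacobsonRing k (Γ(X, U) ⧸ q)
  have hb : Function.Bijective (algebraMap k (Γ(X, U) ⧸ q)) :=
    ⟨(algebraMap k _).injective, IsAlgClosed.algebraMap_bijective_of_isIntegral.2⟩
  letI : Algebra Γ(X, U) (X.presheaf.stalk x) := (X.presheaf.germ U x hxU).hom.toAlgebra
  haveI : IsLocalization.AtPrime (X.presheaf.stalk x) q := hU.isLocalization_stalk ⟨x, hxU⟩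
  let e := IsLocalization.AtPrime.equivQuotMaximalIdeal q (X.presheaf.stalk x)
  refine ⟨?_, fun c => ?_⟩
  · have hf : IsField Γ(Spec (CommRingCat.of k), ⊤) :=
      (Scheme.ΓSpecIso (CommRingCat.of k)).commRingCatIsoToRingEquiv.toMulEquiv.isField (Field.toIsField k)
    letI := hf.toField
    exact RingHom.injective _
  · obtain ⟨c', rfl⟩ := e.surjective c
    obtain ⟨a, rfl⟩ := hb.2 c'
    refine ⟨(Scheme.ΓSpecIso (CommRingCat.of k)).inv a, ?_⟩
    show IsLocalRing.residue _ (topAlg g x _) = e (Ideal.Quotient.mk q (φ.hom a))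
    rw [topAlg_eq g (U := U) le_top x hxU]
    rfl

end Groth.Agent.H7SmoothCrit
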