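import Groth.Agent.H06Unram.ConormalInj
import Groth.Agent.H17.Conormal.Left
import Groth.Agent.H8Props.FinLocFree.Global

/-!
# A closed subscheme with locally free differentials and left exact conormal sequence is smooth
-/

set_option autoImplicit false
set_option linter.style.haveILetI false
set_option maxHeartbeats 800000

universe u

open CategoryTheory CategoryTheory.Limits AlgebraicGeometry TopologicalSpace Opposite TensorProduct

namespace Groth.Agent.H7SmoothCrit

open Groth.Agent.H06Mod Groth.Agent.H29Omega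

attribute [local instance] Groth.Agent.H06Mod.stalkAlgebra

theorem formallySmooth_stalk_of_conormal {X S Z : Scheme.{u}} (i : Z ⟶ X) [IsImmersion i] [QuasiCompact i]
    (f : X ⟶ S) (hsm : ∀ x : X, (f.stalkMap x).hom.FormallySmooth)
    {ΩX : X.Modules} {dX : OmegaSh.Der f ΩX} (hX : OmegaSh.IsUniversal dX)
    {ΩZ : Z.Modules} {dZ : OmegaSh.Der (i ≫ f) ΩZ} (hZ : OmegaSh.IsUniversal dZ)
    (hfree : FlatMod.IsFinLocFree ΩZ)
    {φ : Omega.conormal i ⟶ (Scheme.Modules.pullback i).obj ΩX} (hφ : OmegaSh.IsConormalDiff i dX φ) [Mono φ]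
    (z : Z) : ((i ≫ f).stalkMap z).hom.FormallySmooth := by
  obtain ⟨e, he⟩ := exists_pullEquiv dX hX i z
  obtain ⟨eZ, -⟩ := exists_stalkEquiv dZ hZ z
  letI : Algebra (S.presheaf.stalk (f.base (i.base z))) (Z.presheaf.stalk z) :=
    ((i ≫ f).stalkMap z).hom.toAlgebra
  haveI : IsScalarTower (S.presheaf.stalk (f.base (i.base z))) (X.presheaf.stalk (i.base z))
      (Z.presheaf.stalk z) := .of_algebraMap_eq fun r =>
    congr($(congrArg CommRingCat.Hom.hom (Scheme.Hom.stalkMap_comp i f z)) r)
  haveI : Algebra.FormallySmooth (S.presheaf.stalk (f.base (i.base z))) (X.presheaf.stalk (i.base z)) := hsm (i z)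
  have hsurj : Function.Surjective (algebraMap (X.presheaf.stalk (i.base z)) (Z.presheaf.stalk z)) :=
    i.stalkMap_surjective z
  have hinj : Function.Injective (KaehlerDifferential.kerCotangentToTensor (S.presheaf.stalk (f.base (i.base z)))
      (X.presheaf.stalk (i.base z)) (Z.presheaf.stalk z)) := by
    rw [injective_iff_map_eq_zero]
    intro v hv
    obtain ⟨⟨a, ha⟩, rfl⟩ := Ideal.toCotangent_surjective _ v
    rw [KaehlerDifferential.kerCotangentToTensor_toCotangent] at hv
    rw [Ideal.toCotangent_eq_zero]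
    have h0 := stalkLin_conormalDiff hφ z he ⟨a, ha⟩
    exact H17.Conormal.mem_sq_of_cgen_eq_zero i z ⟨a, ha⟩
      (stalkLin_injective_of_mono φ z ((e.injective ((h0.trans hv).trans (map_zero e).symm)).trans (map_zero _).symm))
  have hfr : Module.Free (Z.presheaf.stalk z) (ΩZ.presheaf.stalk z) := H8Props.FinLocFree.free_stalk ΩZ hfree z
  show Algebra.FormallySmooth (S.presheaf.stalk (f.base (i.base z))) (Z.presheaf.stalk z)
  rw [Algebra.formallySmooth_iff]
  refine ⟨?_, (Algebra.FormallySmooth.kerCotangentToTensor_injective_iff hsurj).1 hinj⟩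
  haveI := hfr
  exact Module.Projective.of_equiv eZ

end Groth.Agent.H7SmoothCrit
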